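import Cfsg.Agent.Lib.Grp.A5.Defs

set_option autoImplicit false
set_option maxRecDepth 100000
set_option Elab.async false

namespace Cfsg.Agent.CG.A5

theorem c0 : allRange (chkBase 5 8 (appT tabs t19 0xff) 0 (inv 0)) 0 5 = true := by decide +kernel
theorem c1 : allRange (chkBase 5 8 (appT tabs t19 0xff) 1 (inv 1)) 0 5 = true := by decide +kernel
theorem c2 : allRange (chkBase 5 8 (appT tabs t19 0xff) 2 (inv 2)) 0 5 = true := by decide +kernel
theorem c3 : chkDef 8 (appT tabs t19 0xff) 3 (slp 3) 0 5 = true := by decide +kernel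
theorem c4 : chkDef 8 (appT tabs t19 0xff) 4 (slp 4) 0 5 = true := by decide +kernel
theorem c5 : chkDef 8 (appT tabs t19 0xff) 5 (slp 5) 0 5 = true := by decide +kernel
theorem c6 : chkDef 8 (appT tabs t19 0xff) 6 (slp 6) 0 5 = true := by decide +kernel
theorem c7 : chkDef 8 (appT tabs t19 0xff) 7 (slp 7) 0 5 = true := by decide +kernel
theorem c8 : chkDef 8 (appT tabs t19 0xff) 8 (slp 8) 0 5 = true := by decide +kernel
theorem c9 : chkDef 8 (appT tabs t19 0xff) 9 (slp 9) 0 5 = true := by decide +kernel
theorem c10 : chkDef 8 (appT tabs t19 0xff) 10 (slp 10) 0 5 = true := by decide +kernel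
theorem c11 : chkDef 8 (appT tabs t19 0xff) 11 (slp 11) 0 5 = true := by decide +kernel
theorem c12 : chkDef 8 (appT tabs t19 0xff) 12 (slp 12) 0 5 = true := by decide +kernel
theorem c13 : chkDef 8 (appT tabs t19 0xff) 13 (slp 13) 0 5 = true := by decide +kernel
theorem c14 : chkDef 8 (appT tabs t19 0xff) 14 (slp 14) 0 5 = true := by decide +kernel
theorem c15 : chkDef 8 (appT tabs t19 0xff) 15 (slp 15) 0 5 = true := by decide +kernel
theorem c16 : chkDef 8 (appT tabs t19 0xff) 16 (slp 16) 0 5 = true := by decide +kernel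
theorem c17 : chkDef 8 (appT tabs t19 0xff) 17 (slp 17) 0 5 = true := by decide +kernel
theorem c18 : chkDef 8 (appT tabs t19 0xff) 18 (slp 18) 0 5 = true := by decide +kernel
theorem c19 : chkDef 8 (appT tabs t19 0xff) 19 (false, []) 0 5 = true := by decide +kernel
theorem c20 : mc0.chk (appT tabs t19 0xff) 1 4 = true := by decide +kernel
theorem c21 : mc1.chk (appT tabs t19 0xff) 1 3 = true := by decide +kernel
theorem c22 : mc2.chk (appT tabs t19 0xff) 1 2 = true := by decide +kernel
theorem c23 : okcb 5 8 (bases mc) = true := by decide +kernel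
theorem c24 : headAll (appT tabs t19 0xff) mc [] = true := by decide +kernel
theorem c25 : tc0.head tcR = true := by decide +kernel
theorem c26 : allL (fun a => tc0.chk a 0 tc0.N) tc0.S = true := by decide +kernel
theorem c27 : tc1.head tcR = true := by decide +kernel
theorem c28 : allL (fun a => tc1.chk a 0 tc1.N) tc1.S = true := by decide +kernel
theorem c29 : tc2.head tcR = true := by decide +kernel
theorem c30 : allL (fun a => tc2.chk a 0 tc2.N) tc2.S = true := by decide +kernel
theorem c31 : tcLink tc [] [15,16,17,18] = true := by decide +kernel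
theorem c32 : oneAll 8 (appT tabs t19 0xff) [15,16] 0 5 = true := by decide +kernel
theorem c33 : oneAll 8 (appT tabs t19 0xff) [16,15] 0 5 = true := by decide +kernel
theorem c34 : oneAll 8 (appT tabs t19 0xff) [15,15,15] 0 5 = true := by decide +kernel
theorem c35 : oneAll 8 (appT tabs t19 0xff) [17,17] 0 5 = true := by decide +kernel
theorem c36 : oneAll 8 (appT tabs t19 0xff) [17,15,17,15,17,15] 0 5 = true := by decide +kernel
theorem c37 : oneAll 8 (appT tabs t19 0xff) [18,18] 0 5 = true := by decide +kernel
theorem c38 : oneAll 8 (appT tabs t19 0xff) [18,15,18,15] 0 5 = true := by decide +kernel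
theorem c39 : oneAll 8 (appT tabs t19 0xff) [18,17,18,17,18,17] 0 5 = true := by decide +kernel
theorem c40 : eqAll 8 (appT tabs t19 0xff) [0] (nth inW [] 0) 0 5 = true := by decide +kernel
theorem c41 : eqAll 8 (appT tabs t19 0xff) [1] (nth inW [] 1) 0 5 = true := by decide +kernel
theorem c42 : eqAll 8 (appT tabs t19 0xff) [2] (nth inW [] 2) 0 5 = true := by decide +kernel

end Cfsg.Agent.CG.A5
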