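import Cfsg.Agent.Lib.Grp.A5.D0

set_option autoImplicit false
set_option maxRecDepth 100000
set_option Elab.async false

namespace Cfsg.Agent.CG.A5

noncomputable def tabs : List ℕ := [t0,t1,t2,t3,t4,t5,t6,t7,t8,t9,t10,t11,t12,t13,t14,t15,t16,t17,t18]
noncomputable abbrev app : ℕ → ℕ → ℕ := appT tabs t19 0xff
noncomputable def slpL : List (Bool × List ℕ) := [(false,[]),
  (false,[]),
  (false,[]),
  (false,[2,0,2,0,1,0,2]),
  (true,[3]),
  (false,[4,0,2,2,0,1,1]),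
  (true,[5]),
  (false,[0,3,0,6,6,0,3]),
  (true,[7]),
  (false,[7,7,2,2,4,7,1,3]),
  (true,[9]),
  (false,[2,6,4,2,2,8,6,3,1]),
  (true,[11]),
  (false,[0,8,3,7,2,0,1,4,5]),
  (true,[13]),
  (false,[13]),
  (true,[15]),
  (false,[11,14]),
  (false,[0,14])]
noncomputable def slp (a : ℕ) : Bool × List ℕ := nth slpL (false, []) a
noncomputable def invL : List ℕ := [0,2,1,4,3,6,5,8,7,10,9,12,11,14,13,16,15,17,18]
noncomputable def inv (a : ℕ) : ℕ := nth invL 19 a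
noncomputable def bs : List ℕ := [0,8,16]
noncomputable def mc0 : Lvl := ⟨0, [0,1,2,5,6], 5,
  fun i => look 0xff mc0c (Nat.mul 8 i), fun i => look 0xf mc0p (Nat.mul 4 i),
  fun i => look 255 mc0l (Nat.mul 8 i), fun i => look 255 mc0i (Nat.mul 8 i), fun x => look 0xff mc0q x, 1⟩
noncomputable def mc1 : Lvl := ⟨8, [9,10,11,12], 4,
  fun i => look 0xff mc1c (Nat.mul 8 i), fun i => look 0xf mc1p (Nat.mul 4 i),
  fun i => look 255 mc1l (Nat.mul 8 i), fun i => look 255 mc1i (Nat.mul 8 i), fun x => look 0xff mc1q x, 1⟩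
noncomputable def mc2 : Lvl := ⟨16, [13,14], 3,
  fun i => look 0xff mc2c (Nat.mul 8 i), fun i => look 0xf mc2p (Nat.mul 4 i),
  fun i => look 255 mc2l (Nat.mul 8 i), fun i => look 255 mc2i (Nat.mul 8 i), fun x => look 0xff mc2q x, 1⟩
noncomputable def mc : List Lvl := [mc0, mc1, mc2]
noncomputable def tcR : List (List ℕ) := [[15,16],
  [16,15],
  [15,15,15],
  [17,17],
  [17,15,17,15,17,15],
  [18,18],
  [18,15,18,15],
  [18,17,18,17,18,17]]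
noncomputable def tc0T : List ℕ := [0,0,0,0,0,0,0,0,0,0,0,0,0,0,0,tc0t15,tc0t16,tc0t17,tc0t18]
noncomputable def tc0r : Tr Rule := (.node (.node (.node (.node (.leaf ⟨18,[18],5,1⟩) (.leaf ⟨18,[15,18,15],6,2⟩)) (.leaf ⟨15,[15,15],2,2⟩)) (.node (.leaf ⟨16,[15],0,1⟩) (.leaf ⟨17,[15,17,15,17,15],4,4⟩))) (.node (.node (.leaf ⟨17,[17],3,1⟩) (.leaf ⟨15,[18,15,18],6,3⟩)) (.node (.leaf ⟨15,[16],0,0⟩) (.leaf ⟨18,[17,18,17,18,17],7,4⟩))))
noncomputable def tc0 : TCL := ⟨[15,16,17,18], [15,16,17], 5, 16, 0x7f, 7, 0xf,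
  fun a x => look 0xffff (nth tc0T 0 a) x, fun x => look 0xffff tc0d x, tc0r⟩
noncomputable def tc1T : List ℕ := [0,0,0,0,0,0,0,0,0,0,0,0,0,0,0,tc1t15,tc1t16,tc1t17]
noncomputable def tc1r : Tr Rule := (.node (.node (.node (.leaf ⟨17,[17],3,1⟩) (.leaf ⟨17,[15,17,15,17,15],4,4⟩)) (.leaf ⟨15,[16],0,0⟩)) (.node (.leaf ⟨16,[15],0,1⟩) (.leaf ⟨15,[15,15],2,2⟩)))
noncomputable def tc1 : TCL := ⟨[15,16,17], [15,16], 4, 16, 0x7f, 7, 0x7,
  fun a x => look 0xffff (nth tc1T 0 a) x, fun x => look 0xffff tc1d x, tc1r⟩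
noncomputable def tc2T : List ℕ := [0,0,0,0,0,0,0,0,0,0,0,0,0,0,0,tc2t15,tc2t16]
noncomputable def tc2r : Tr Rule := (.node (.node (.leaf ⟨16,[15],0,1⟩) (.leaf ⟨15,[15,15],2,2⟩)) (.leaf ⟨15,[16],0,0⟩))
noncomputable def tc2 : TCL := ⟨[15,16], [], 3, 16, 0x3f, 6, 0x7,
  fun a x => look 0xffff (nth tc2T 0 a) x, fun x => look 0xffff tc2d x, tc2r⟩
noncomputable def tc : List TCL := [tc0, tc1, tc2]
noncomputable def inW : List (List ℕ) := [[18,15],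
  [17,18,17,16],
  [15,17,18,17]]
noncomputable def tcS : List ℕ := [15,16,17,18]

end Cfsg.Agent.CG.A5
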